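import Groth.Agent.L03.GeomReduced2
import Mathlib.RingTheory.Nilpotent.GeometricallyReduced
import Mathlib.RingTheory.Jacobson.Ring
import Mathlib.FieldTheory.Perfect
import Mathlib.RingTheory.Localization.FractionRing
import Mathlib.RingTheory.TensorProduct.Maps
import Mathlib.LinearAlgebra.Basis.VectorSpace
import Mathlib.FieldTheory.IsAlgClosed.Basic
import Mathlib.Algebra.CharP.Algebra

/-!
# Functions constant on the fibres of a map of varieties in characteristic zero
-/

set_option autoImplicit false
set_option linter.style.haveILetI false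

universe u

open scoped TensorProduct

namespace Groth.L28.FibConst

/-- An element of a field extension with `z ⊗ 1 = 1 ⊗ z` lies in the base field. -/
theorem mem_range_of_tmul_eq {F L : Type u} [Field F] [Field L] [Algebra F L] (z : L)
    (h : z ⊗ₜ[F] (1 : L) = (1 : L) ⊗ₜ[F] z) : z ∈ (algebraMap F L).range := by
  classical
  let p : Submodule F L := 1
  by_contra hz
  have hz' : z ∉ p := fun hp => hz (by obtain ⟨a, ha⟩ := Submodule.mem_one.1 hp; exact ⟨a, ha⟩)
  obtain ⟨φ, hφz, hφp⟩ := Submodule.exists_dual_map_eq_bot_of_notMem hz' inferInstance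
  have hφ1 : φ 1 = 0 := by
    have : φ 1 ∈ p.map φ := ⟨1, Submodule.one_le.1 le_rfl, rfl⟩
    rwa [hφp, Submodule.mem_bot] at this
  have := congrArg (fun w => TensorProduct.lid F L (φ.rTensor L w)) h
  simp [hφ1, hφz] at this

/-- Over a field of characteristic zero, `L ⊗ L` is reduced. -/
theorem isReduced_tensor_self (F L : Type u) [Field F] [CharZero F] [Field L] [Algebra F L] :
    IsReduced (L ⊗[F] L) := by
  haveI : Algebra.IsGeometricallyReduced F L := by
    rw [Algebra.isGeometricallyReduced_field_iff]
    haveI : IsReduced (L ⊗[F] AlgebraicClosure F) := Groth.L03.GeomReduced2.isReduced_tensorProduct_of_perfectField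
    exact isReduced_of_injective (Algebra.TensorProduct.comm F (AlgebraicClosure F) L).toAlgHom
      (Algebra.TensorProduct.comm F (AlgebraicClosure F) L).injective
  exact Groth.L03.GeomReduced2.isReduced_of_isGeometricallyReduced L

/-- An element killed by all rational points is nilpotent. -/
theorem isNilpotent_of_forall_algHom {k S : Type u} [Field k] [IsAlgClosed k] [CommRing S] [Algebra k S]
    [Algebra.FiniteType k S] (h : S) (hh : ∀ ψ : S →ₐ[k] k, ψ h = 0) : IsNilpotent h := by
  haveI : IsJacobsonRing S := isJacobsonRing_of_finiteType (A := k)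
  rw [← mem_nilradical, nilradical, Ideal.zero_eq_bot]
  suffices h ∈ (⊥ : Ideal S).jacobson by rwa [← Ideal.radical_eq_jacobson] at this
  rw [Ideal.jacobson, Ideal.mem_sInf]
  rintro P ⟨-, hP⟩
  haveI := hP
  letI := Ideal.Quotient.field P
  haveI : Module.Finite k (S ⧸ P) := finite_of_finite_type_of_isJacobsonRing k (S ⧸ P)
  let e : k ≃+* (S ⧸ P) := RingEquiv.ofBijective (algebraMap k (S ⧸ P))
    (IsAlgClosed.algebraMap_bijective_of_isIntegral (k := k) (K := S ⧸ P))
  let ψ : S →ₐ[k] k :=
    { (e.symm : S ⧸ P →+* k).comp (Ideal.Quotient.mk P) with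
      commutes' := fun c => e.symm_apply_apply c }
  have := hh ψ
  exact Ideal.Quotient.eq_zero_iff_mem.1
    ((map_eq_zero_iff (e.symm : S ⧸ P →+* k) e.symm.injective).1 this)

/-- A function on a variety separating no two rational points of the same fibre comes from the function
field of the base. -/
theorem exists_fraction_of_forall_algHom_eq (k : Type u) [Field k] [IsAlgClosed k] [CharZero k]
    {A R F L : Type u} [CommRing A] [CommRing R] [Field F] [Field L] [Algebra k R]
    [Algebra.FiniteType k R] [Algebra k A] [Algebra A F] [IsFractionRing A F] [Algebra A R]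
    [IsScalarTower k A R] [Algebra R L] [Algebra F L] [Algebra A L]
    [IsScalarTower A R L] [IsScalarTower A F L] (s : R)
    (h : ∀ φ₁ φ₂ : R →ₐ[k] k, (∀ a : A, φ₁ (algebraMap A R a) = φ₂ (algebraMap A R a)) → φ₁ s = φ₂ s) :
    algebraMap R L s ∈ (algebraMap F L).range := by
  haveI : CharZero F := charZero_of_injective_ringHom
    (((algebraMap A F).comp (algebraMap k A)).injective : Function.Injective _)
  haveI := isReduced_tensor_self F L
  let T := R ⊗[A] R
  let i₁ : R →ₐ[A] T := Algebra.TensorProduct.includeLeft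
  let i₂ : R →ₐ[A] T := Algebra.TensorProduct.includeRight
  haveI : Algebra.FiniteType A R := Algebra.FiniteType.of_restrictScalars_finiteType k A R
  haveI : Algebra.FiniteType k T := by
    haveI : Algebra.FiniteType R T := Algebra.FiniteType.baseChange R
    exact Algebra.FiniteType.trans (S := R) inferInstance inferInstance
  have hnil : IsNilpotent (i₁ s - i₂ s) := isNilpotent_of_forall_algHom _ fun (ψ : T →ₐ[k] k) => by
    rw [map_sub, sub_eq_zero]
    let φ₂ : R →ₐ[k] k :=
      { ψ.toRingHom.comp i₂.toRingHom with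
        commutes' := fun c => by
          show ψ (i₂ (algebraMap k R c)) = c
          rw [IsScalarTower.algebraMap_apply k A R, AlgHom.commutes, ← IsScalarTower.algebraMap_apply]
          exact ψ.commutes c }
    let φ₁ : R →ₐ[k] k :=
      { ψ.toRingHom.comp i₁.toRingHom with
        commutes' := fun c => by
          show ψ (i₁ (algebraMap k R c)) = c
          rw [IsScalarTower.algebraMap_apply k A R, AlgHom.commutes, ← IsScalarTower.algebraMap_apply]
          exact ψ.commutes c }
    refine h φ₁ φ₂ fun a => ?_
    show ψ (i₁ (algebraMap A R a)) = ψ (i₂ (algebraMap A R a))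
    rw [AlgHom.commutes, AlgHom.commutes]
  let ω : T →ₐ[A] L ⊗[F] L := Algebra.TensorProduct.lift
    (((Algebra.TensorProduct.includeLeft : L →ₐ[F] L ⊗[F] L).restrictScalars A).comp
      (IsScalarTower.toAlgHom A R L))
    (((Algebra.TensorProduct.includeRight : L →ₐ[F] L ⊗[F] L).restrictScalars A).comp
      (IsScalarTower.toAlgHom A R L)) fun _ _ => Commute.all _ _
  have h0 := (hnil.map ω).eq_zero
  rw [map_sub, sub_eq_zero] at h0
  refine mem_range_of_tmul_eq _ ?_
  have e1 : ω (i₁ s) = algebraMap R L s ⊗ₜ[F] (1 : L) := by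
    show ω (s ⊗ₜ[A] 1) = _
    rw [Algebra.TensorProduct.lift_tmul, map_one, mul_one]
    rfl
  have e2 : ω (i₂ s) = (1 : L) ⊗ₜ[F] algebraMap R L s := by
    show ω (1 ⊗ₜ[A] s) = _
    rw [Algebra.TensorProduct.lift_tmul, map_one, one_mul]
    rfl
  rw [← e1, ← e2, h0]

end Groth.L28.FibConst
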